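import Groth.Agent.S7885
import Mathlib.AlgebraicGeometry.FunctionField

/-!
# Complements of affine opens in normal separated schemes have pure codimension one
-/

set_option autoImplicit false
universe u
open CategoryTheory AlgebraicGeometry TopologicalSpace Groth.Agent.Fdesc

namespace K413.AffCodim

/-- An inclusion of affine opens which is bijective on sections is an equality. -/
theorem eq_of_bijective {X : Scheme.{u}} {V' V : X.Opens} (hle : V' ≤ V) (hV' : IsAffineOpen V')
    (hV : IsAffineOpen V) (h : Function.Bijective (X.presheaf.map (homOfLE hle).op)) : V' = V := by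
  have h1 : IsIso (X.presheaf.map (homOfLE hle).op) :=
    (ConcreteCategory.isIso_iff_bijective _).mpr h
  have h2 : Spec.map (X.presheaf.map (homOfLE hle).op) ≫ hV.fromSpec = hV'.fromSpec :=
    hV.map_fromSpec hV' (homOfLE hle).op
  apply SetLike.coe_injective
  rw [← hV.range_fromSpec, ← hV'.range_fromSpec, ← h2]
  apply Set.Subset.antisymm
  · rintro _ ⟨x, rfl⟩
    exact ⟨_, rfl⟩
  · rintro _ ⟨x, rfl⟩
    obtain ⟨y, rfl⟩ := (Spec.map (X.presheaf.map (homOfLE hle).op)).surjective x
    exact ⟨y, rfl⟩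

theorem eq_of_isAffineOpen {X : Scheme.{u}} [IsIntegral X] [IsLocallyNoetherian X] [X.IsSeparated]
    (hX : ∀ x : X, IsIntegrallyClosed (X.presheaf.stalk x)) (W' W : X.Opens) (hle : W' ≤ W)
    (hW' : IsAffineOpen W') (hne : (W' : Set X).Nonempty)
    (h : ∀ x ∈ W, Order.coheight x = 1 → x ∈ W') : W' = W := by
  refine le_antisymm hle fun w hw => ?_
  have hWne : Nonempty W := ⟨⟨w, hw⟩⟩
  have hTint : IsIntegral (W : Scheme.{u}) := isIntegral_of_isOpenImmersion W.ι
  have hTnoe : IsLocallyNoetherian (W : Scheme.{u}) := isLocallyNoetherian_of_isOpenImmersion W.ι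
  have hTsep : (W : Scheme.{u}).IsSeparated := by
    refine ⟨?_⟩
    rw [← Limits.terminal.comp_from W.ι]
    infer_instance
  let U : (W : Scheme.{u}).Opens := W.ι ⁻¹ᵁ W'
  have hUaff : IsAffineOpen U := by
    rw [← W.ι.isAffineOpen_iff_of_isOpenImmersion]
    have : W.ι ''ᵁ U = W' := by
      rw [Scheme.Hom.image_preimage_eq_opensRange_inf, Scheme.Opens.opensRange_ι]
      exact inf_eq_right.mpr hle
    rw [this]
    exact hW'
  have hT : ∀ x : (W : Scheme.{u}), IsDomain ((W : Scheme.{u}).presheaf.stalk x) ∧ IsIntegrallyClosed ((W : Scheme.{u}).presheaf.stalk x) := by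
    intro x
    have e : X.presheaf.stalk (W.ι x) ≃+* (W : Scheme.{u}).presheaf.stalk x :=
      (asIso (W.ι.stalkMap x)).commRingCatIsoToRingEquiv
    refine ⟨e.symm.toMulEquiv.isDomain _, ?_⟩
    have := hX (W.ι x)
    exact IsIntegrallyClosed.of_equiv e
  have hU : ∀ x : (W : Scheme.{u}), x ∉ (U : Set (W : Scheme.{u})) → 2 ≤ ringKrullDim ((W : Scheme.{u}).presheaf.stalk x) := by
    intro x hx
    rw [ringKrullDim_stalk_eq_coheight, ← coheight_eq_of_isOpenImmersion W.ι]
    have hxW : W.ι x ∈ W := x.2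
    have hxW' : W.ι x ∉ W' := hx
    have h1 : Order.coheight (W.ι x) ≠ 1 := fun h1 => hxW' (h _ hxW h1)
    have h0 : Order.coheight (W.ι x) ≠ 0 := by
      intro h0
      apply hxW'
      rw [Order.coheight_eq_zero] at h0
      have h2 : W.ι x ≤ genericPoint X := genericPoint_specializes _
      have h3 : W.ι x ⤳ genericPoint X := h0 h2
      exact h3.mem_open W'.isOpen (((genericPoint_spec X).mem_open_set_iff W'.isOpen).mpr (by simpa using hne))
    have h2 : (2 : ℕ∞) ≤ Order.coheight (W.ι x) := by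
      rw [← one_add_one_eq_two]
      exact Order.add_one_le_of_lt (lt_of_le_of_ne (Order.one_le_iff_ne_zero.mpr h0) (Ne.symm h1))
    exact WithBot.coe_le_coe.mpr h2
  obtain ⟨V, hV, hwV, -⟩ := exists_isAffineOpen_mem_and_subset (X := (W : Scheme.{u})) (x := ⟨w, hw⟩)
    (U := ⊤) trivial
  have hb := Groth.Agent.S7885.hartogs_fun hT U hU (Groth.Agent.S7885.isInvertible_structureModule _) V
  have hVU : IsAffineOpen (V ⊓ U) := hV.inf hUaff
  have heq := eq_of_bijective inf_le_left hVU hV hb
  have : (⟨w, hw⟩ : (W : Scheme.{u})) ∈ V ⊓ U := by rw [heq]; exact hwV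
  exact this.2

end K413.AffCodim
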